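import Cfsg.Agent.Lib.Char.Berger.Multiplicity
import Cfsg.Agent.Lib.Char.Induced
import Cfsg.Agent.Lib.Char.Linear
import Mathlib.LinearAlgebra.Projection

/-!
# A decomposition of the multiplicity space gives a system of imprimitivity
-/

namespace CfsgLib.Char.Berger

open Module

variable {G : Type*} [Group G] [Fintype G]

/-- A character containing an irreducible character of at least its own degree equals it. -/
theorem eq_of_constituent_degree_le {φ χ : G → ℂ} (hφ : Cfsg.IsCharacter G φ)
    (hχ : Cfsg.IsIrrCharacter G χ) (h0 : Cfsg.classInner φ χ ≠ 0) (hle : (φ 1).re ≤ (χ 1).re) :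
    φ = χ := by
  classical
  obtain ⟨m, hm, hmi⟩ := char_decomp hφ
  choose d hd0 hd using fun α : Cfsg.IrrCharacter G => exists_degree_pos α.2
  set χ' : Cfsg.IrrCharacter G := ⟨χ, hχ⟩
  have hm0 : m χ' ≠ 0 := fun h => h0 (by rw [hmi χ', h, Nat.cast_zero])
  have h1 := congrFun hm 1
  simp only [Finset.sum_apply, Pi.smul_apply, smul_eq_mul, hd] at h1
  rw [h1, show χ 1 = (d χ' : ℂ) from hd χ'] at hle
  norm_cast at hle
  rw [← Finset.add_sum_erase _ _ (Finset.mem_univ χ')] at hle
  have hm1 : m χ' = 1 := by
    have : m χ' * d χ' ≤ 1 * d χ' := by omega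
    have := Nat.le_of_mul_le_mul_right this (hd0 χ')
    omega
  have hz : ∑ α ∈ Finset.univ.erase χ', m α * d α = 0 := by rw [hm1] at hle; omega
  rw [hm, Finset.sum_eq_single χ' _ (by simp), hm1]
  · simp [χ']
  · intro α _ hα
    have := (Finset.sum_eq_zero_iff.mp hz) α (Finset.mem_erase.mpr ⟨hα, Finset.mem_univ α⟩)
    simp [(mul_eq_zero.mp this).resolve_right (hd0 α).ne']

/-- In an isotypic representation the images of the intertwining maps span everything. -/
theorem eq_top_of_images_le {V W : Type*} [AddCommGroup V] [Module ℂ V] [FiniteDimensional ℂ V]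
    [AddCommGroup W] [Module ℂ W] [FiniteDimensional ℂ W] {σ : Representation ℂ G W}
    {ρ : Representation ℂ G V} [σ.IsIrreducible] {s : ℕ}
    (h : ρ.character = (s : ℂ) • σ.character) (Q : Subrepresentation ρ)
    (hQ : ∀ X : Representation.IntertwiningMap σ ρ, ∀ w, X.toLinearMap w ∈ Q.toSubmodule) :
    Q.toSubmodule = ⊤ := by
  obtain ⟨Q', hc⟩ := exists_isCompl Q
  set q := Q'.toRepresentation
  have hsum := character_compl hc
  have hzero : Cfsg.classInner q.character σ.character = 0 := by
    rw [classInner_character]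
    have : Subsingleton (Representation.IntertwiningMap σ q) := by
      refine ⟨fun f g => ?_⟩
      have hall : ∀ f : Representation.IntertwiningMap σ q, f = 0 := fun f => by
        let X : Representation.IntertwiningMap σ ρ :=
          { toLinearMap := Q'.toSubmodule.subtype ∘ₗ f.toLinearMap
            isIntertwining' := fun x => LinearMap.ext fun w =>
              congrArg Subtype.val (LinearMap.congr_fun (f.isIntertwining' x) w) }
        refine Representation.IntertwiningMap.ext (LinearMap.ext fun w => Subtype.ext ?_)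
        have h1 : ((f.toLinearMap w : Q'.toSubmodule) : V) ∈ Q.toSubmodule ⊓ Q'.toSubmodule :=
          ⟨hQ X w, (f.toLinearMap w).2⟩
        rw [(isCompl_toSubmodule hc).inf_eq_bot, Submodule.mem_bot] at h1
        exact h1
      rw [hall f, hall g]
    simp [Module.finrank_zero_of_subsingleton]
  obtain ⟨a, ha⟩ := classInner_char_nat (isCharacter_char Q.toRepresentation) (isCharacter_char q)
  obtain ⟨b, hb⟩ := classInner_char_nat (isCharacter_char q) (isCharacter_char q)
  have h1 : Cfsg.classInner ρ.character q.character = 0 := by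
    rw [h, classInner_smul_left, ← classInner_conj_symm q.character σ.character, hzero, map_zero,
      mul_zero]
  rw [hsum, classInner_add_left, ha, hb, ← Nat.cast_add, Nat.cast_eq_zero] at h1
  have hq0 : q.character = 0 := eq_zero_of_classInner_self_eq_zero (by
    rw [hb, show b = 0 by omega, Nat.cast_zero])
  have h2 := congrFun hq0 1
  rw [Representation.char_one, Pi.zero_apply, Nat.cast_eq_zero] at h2
  have h3 : Q'.toSubmodule = ⊥ := Submodule.finrank_eq_zero.mp h2
  have h4 := (isCompl_toSubmodule hc).sup_eq_top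
  rwa [h3, sup_bot_eq] at h4

variable {H C M : Subgroup G} [hCn : C.Normal] [hMn : M.Normal] (hCM : C ≤ M) (hCH : C ≤ H)
variable {U : Type*} [AddCommGroup U] [Module ℂ U] [FiniteDimensional ℂ U]
variable {Vϑ : Type*} [AddCommGroup Vϑ] [Module ℂ Vϑ] [FiniteDimensional ℂ Vϑ]
variable {Vφ : Type*} [AddCommGroup Vφ] [Module ℂ Vφ] [FiniteDimensional ℂ Vφ]
variable {Vη : Type*} [AddCommGroup Vη] [Module ℂ Vη] [FiniteDimensional ℂ Vη]

/-- A decomposition of the multiplicity space permuted by `H` yields a proper subgroup above `M`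
from which the representation is induced. -/
theorem exists_induced_above (ρ : Representation ℂ G U) [ρ.IsIrreducible]
    (ϑ : Representation ℂ H Vϑ) (ρφ : Representation ℂ C Vφ) [ρφ.IsIrreducible]
    (ρη : Representation ℂ M Vη) [ρη.IsIrreducible]
    (hinvφ : ∀ (g : G) (n : C), ρφ.character (conjElt g n) = ρφ.character n)
    (hinvη : ∀ (g : G) (n : M), ρη.character (conjElt g n) = ρη.character n)
    (hMH : ∀ g : G, ∃ m ∈ M, ∃ h ∈ H, g = m * h)
    (π : Representation.IntertwiningMap (ρ.comp H.subtype) ϑ) (hπ : π ≠ 0) {s k : ℕ}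
    (hk : finrank ℂ (Representation.IntertwiningMap ρφ (ϑ.comp (Subgroup.inclusion hCH))) = k)
    (hs : finrank ℂ (MultSpace hCM ρφ ρη) = s)
    (hZ : finrank ℂ (Representation.IntertwiningMap ρη (ρ.comp M.subtype)) = s * k)
    (hU : finrank ℂ U = s * k * finrank ℂ Vη)
    (hiso : (resRep hCM ρη).character = (s : ℂ) • ρφ.character)
    (Λ : Finset (Submodule ℂ (MultSpace hCM ρφ ρη))) (hΛ : 1 < Λ.card) (hind : Λ.SupIndep id)
    (htop : Λ.sup id = ⊤) (hne : ∀ D ∈ Λ, D ≠ ⊥)
    (hperm : ∀ h ∈ H, ∀ T, IsAct hCM h T → ∀ D ∈ Λ, D.map T ∈ Λ) :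
    ∃ X : Subgroup G, X ≠ ⊤ ∧ M ≤ X ∧
      ∃ ξ : X → ℂ, Cfsg.IsCharacter X ξ ∧ Cfsg.indFun X ξ = ρ.character := by
  classical
  let ZS := Representation.IntertwiningMap ρη (ρ.comp M.subtype)
  let RS := Representation.IntertwiningMap ρφ (ϑ.comp (Subgroup.inclusion hCH))
  let WS := MultSpace hCM ρφ ρη
  -- the pairing
  let pair : ZS → WS → RS := fun F X =>
    { toLinearMap := π.toLinearMap ∘ₗ F.toLinearMap ∘ₗ X.toLinearMap
      isIntertwining' := fun c => LinearMap.ext fun v => by
        have e1 := LinearMap.congr_fun (X.isIntertwining' c) v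
        have e2 := LinearMap.congr_fun (F.isIntertwining' (Subgroup.inclusion hCM c)) (X.toLinearMap v)
        have e3 := LinearMap.congr_fun (π.isIntertwining' (Subgroup.inclusion hCH c))
          (F.toLinearMap (X.toLinearMap v))
        simp only [LinearMap.comp_apply] at e1 e2 e3 ⊢
        rw [e1]
        show π.toLinearMap (F.toLinearMap (ρη (Subgroup.inclusion hCM c) (X.toLinearMap v))) = _
        rw [e2]
        exact e3 }
  have hpair : ∀ F X v, (pair F X).toLinearMap v = π.toLinearMap (F.toLinearMap (X.toLinearMap v)) :=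
    fun _ _ _ => rfl
  let Φ : ZS →ₗ[ℂ] (WS →ₗ[ℂ] RS) :=
    { toFun := fun F =>
        { toFun := pair F
          map_add' := fun X Y => Representation.IntertwiningMap.ext (LinearMap.ext fun v => by
            show (pair F (X + Y)).toLinearMap v = (pair F X).toLinearMap v + (pair F Y).toLinearMap v
            simp only [hpair]
            show π.toLinearMap (F.toLinearMap (X.toLinearMap v + Y.toLinearMap v)) = _
            rw [map_add, map_add])
          map_smul' := fun c X => Representation.IntertwiningMap.ext (LinearMap.ext fun v => by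
            show (pair F (c • X)).toLinearMap v = c • (pair F X).toLinearMap v
            simp only [hpair]
            show π.toLinearMap (F.toLinearMap (c • X.toLinearMap v)) = _
            rw [map_smul, map_smul]) }
      map_add' := fun F F' => LinearMap.ext fun X =>
        Representation.IntertwiningMap.ext (LinearMap.ext fun v => by
          show (pair (F + F') X).toLinearMap v = (pair F X).toLinearMap v + (pair F' X).toLinearMap v
          simp only [hpair]
          show π.toLinearMap (F.toLinearMap (X.toLinearMap v) + F'.toLinearMap (X.toLinearMap v)) = _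
          rw [map_add])
      map_smul' := fun c F => LinearMap.ext fun X =>
        Representation.IntertwiningMap.ext (LinearMap.ext fun v => by
          show (pair (c • F) X).toLinearMap v = c • (pair F X).toLinearMap v
          simp only [hpair]
          show π.toLinearMap (c • F.toLinearMap (X.toLinearMap v)) = _
          rw [map_smul]) }
  have hΦ : ∀ F X v, (Φ F X).toLinearMap v = π.toLinearMap (F.toLinearMap (X.toLinearMap v)) :=
    fun _ _ _ => rfl
  -- injectivity
  have hΦinj : Function.Injective Φ := by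
    rw [injective_iff_map_eq_zero]
    intro F hF
    let Q : Subrepresentation (resRep hCM ρη) :=
      { toSubmodule := LinearMap.ker (π.toLinearMap ∘ₗ F.toLinearMap)
        apply_mem_toSubmodule := fun c v hv => by
          rw [LinearMap.mem_ker, LinearMap.comp_apply] at hv ⊢
          have e2 := LinearMap.congr_fun (F.isIntertwining' (Subgroup.inclusion hCM c)) v
          have e3 := LinearMap.congr_fun (π.isIntertwining' (Subgroup.inclusion hCH c))
            (F.toLinearMap v)
          simp only [LinearMap.comp_apply] at e2 e3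
          show π.toLinearMap (F.toLinearMap (ρη (Subgroup.inclusion hCM c) v)) = 0
          rw [e2]
          refine e3.trans ?_
          rw [hv, map_zero] }
    have hQtop : Q.toSubmodule = ⊤ := eq_top_of_images_le hiso Q fun X w => by
      show π.toLinearMap (F.toLinearMap (X.toLinearMap w)) = 0
      rw [← hΦ, hF]
      rfl
    have hπF : ∀ v, π.toLinearMap (F.toLinearMap v) = 0 := fun v =>
      LinearMap.mem_ker.mp (hQtop.ge (Submodule.mem_top (x := v)))
    let Ker : Subrepresentation ρ :=
      { toSubmodule := ⨅ g : G, LinearMap.ker (π.toLinearMap ∘ₗ ρ g)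
        apply_mem_toSubmodule := fun g u hu => by
          rw [Submodule.mem_iInf] at hu ⊢
          intro x
          rw [LinearMap.mem_ker, LinearMap.comp_apply, ← Module.End.mul_apply, ← map_mul]
          exact hu (x * g) }
    rcases IsSimpleOrder.eq_bot_or_eq_top Ker with h | h
    · refine Representation.IntertwiningMap.ext (LinearMap.ext fun v => ?_)
      have hmem : F.toLinearMap v ∈ Ker.toSubmodule := by
        refine (Submodule.mem_iInf _).mpr fun g => ?_
        obtain ⟨m, hm, y, hy, hg⟩ := hMH g⁻¹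
        have hg' : g = y⁻¹ * m⁻¹ := by rw [← mul_inv_rev, ← hg, inv_inv]
        rw [LinearMap.mem_ker, LinearMap.comp_apply, hg', map_mul, Module.End.mul_apply]
        have e2 := LinearMap.congr_fun (F.isIntertwining' ⟨m⁻¹, M.inv_mem hm⟩) v
        simp only [LinearMap.comp_apply] at e2
        rw [show ρ m⁻¹ (F.toLinearMap v) = F.toLinearMap (ρη ⟨m⁻¹, M.inv_mem hm⟩ v) from e2.symm]
        have e3 := LinearMap.congr_fun (π.isIntertwining' ⟨y⁻¹, H.inv_mem hy⟩)
          (F.toLinearMap (ρη ⟨m⁻¹, M.inv_mem hm⟩ v))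
        simp only [LinearMap.comp_apply] at e3
        refine e3.trans ?_
        rw [hπF, map_zero]
      rw [show Ker.toSubmodule = ⊥ from congrArg Subrepresentation.toSubmodule h,
        Submodule.mem_bot] at hmem
      exact hmem
    · exfalso
      refine hπ (Representation.IntertwiningMap.ext (LinearMap.ext fun u => ?_))
      have h1 := (Submodule.mem_iInf _).mp
        ((congrArg Subrepresentation.toSubmodule h).ge (Submodule.mem_top (x := u))) 1
      rw [LinearMap.mem_ker, LinearMap.comp_apply, map_one, Module.End.one_apply] at h1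
      exact h1
  have : FiniteDimensional ℂ RS := inferInstance
  have hΦsurj : Function.Surjective Φ := by
    refine (LinearMap.injective_iff_surjective_of_finrank_eq_finrank ?_).mp hΦinj
    rw [Module.finrank_linearMap]
    show finrank ℂ ZS = finrank ℂ WS * finrank ℂ RS
    rw [show finrank ℂ ZS = s * k from hZ, show finrank ℂ WS = s from hs,
      show finrank ℂ RS = k from hk]
  -- the pieces
  let other : Submodule ℂ WS → Submodule ℂ WS := fun D => (Λ.erase D).sup id
  have hcompl : ∀ D ∈ Λ, IsCompl D (other D) := fun D hD =>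
    ⟨hind (Finset.erase_subset D Λ) hD (Finset.notMem_erase D Λ), codisjoint_iff.mpr (by
      have e : (insert D (Λ.erase D)).sup id = ⊤ := by rw [Finset.insert_erase hD, htop]
      rwa [Finset.sup_insert] at e)⟩
  let ZD : Submodule ℂ WS → Submodule ℂ ZS := fun D =>
    LinearMap.ker ((LinearMap.lcomp ℂ RS (other D).subtype) ∘ₗ Φ)
  have hmemZD : ∀ D F, F ∈ ZD D ↔ ∀ X ∈ other D, Φ F X = 0 := fun D F => by
    simp only [ZD, LinearMap.mem_ker, LinearMap.comp_apply]
    exact ⟨fun h X hX => LinearMap.congr_fun h ⟨X, hX⟩, fun h => LinearMap.ext fun X => h X X.2⟩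
  have hdimZD : ∀ D ∈ Λ, finrank ℂ (ZD D) = finrank ℂ D * k := by
    intro D hD
    let r : ZD D →ₗ[ℂ] (D →ₗ[ℂ] RS) :=
      (LinearMap.lcomp ℂ RS D.subtype) ∘ₗ Φ ∘ₗ (ZD D).subtype
    have hr : Function.Bijective r := by
      constructor
      · rw [injective_iff_map_eq_zero]
        intro F hF
        refine Subtype.ext (hΦinj ?_)
        rw [ZeroMemClass.coe_zero, map_zero]
        refine LinearMap.ext fun X => ?_
        obtain ⟨a, b, rfl, -⟩ := Submodule.existsUnique_add_of_isCompl (hcompl D hD) X
        rw [map_add, LinearMap.zero_apply, (hmemZD D F).mp F.2 b b.2, add_zero]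
        exact LinearMap.congr_fun hF a
      · intro f
        obtain ⟨F, hF⟩ := hΦsurj (LinearMap.ofIsCompl (hcompl D hD) f 0)
        refine ⟨⟨F, (hmemZD D F).mpr fun X hX => ?_⟩, LinearMap.ext fun X => ?_⟩
        · rw [hF]
          exact LinearMap.ofIsCompl_right_apply (hcompl D hD) ⟨X, hX⟩
        · show Φ F X = f X
          rw [hF]
          exact LinearMap.ofIsCompl_left_apply (hcompl D hD) X
    rw [(LinearEquiv.ofBijective r hr).finrank_eq, Module.finrank_linearMap,
      show finrank ℂ RS = k from hk]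
  let UD : Submodule ℂ WS → Submodule ℂ U := fun D =>
    ⨆ F : ZD D, LinearMap.range F.1.toLinearMap
  have hdimUD : ∀ D ∈ Λ, finrank ℂ (UD D) ≤ finrank ℂ D * k * finrank ℂ Vη := by
    intro D hD
    let b := Module.finBasis ℂ (ZD D)
    let E : (Fin (finrank ℂ (ZD D)) → Vη) →ₗ[ℂ] U :=
      ∑ i, (b i).1.toLinearMap ∘ₗ LinearMap.proj i
    have hle : UD D ≤ LinearMap.range E := by
      refine iSup_le fun F => ?_
      rintro _ ⟨v, rfl⟩
      refine ⟨fun i => b.repr F i • v, ?_⟩
      have hF := congrArg (fun Z : ZD D => Z.1.toLinearMap v) (b.sum_repr F)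
      simp only [E, LinearMap.sum_apply, LinearMap.comp_apply, LinearMap.proj_apply, map_smul]
      rw [← hF]
      let ev : ZD D →ₗ[ℂ] U :=
        { toFun := fun Z => Z.1.toLinearMap v
          map_add' := fun _ _ => rfl
          map_smul' := fun _ _ => rfl }
      show _ = ev (∑ i, b.repr F i • b i)
      rw [map_sum]
      rfl
    refine (Submodule.finrank_mono hle).trans ((LinearMap.finrank_range_le E).trans (le_of_eq ?_))
    rw [Module.finrank_pi_fintype, Finset.sum_const, Finset.card_univ, Fintype.card_fin,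
      smul_eq_mul, hdimZD D hD]
  -- invariance under `M`
  have hMinv : ∀ D, ∀ m ∈ M, (UD D).map (ρ m) ≤ UD D := by
    intro D m hm
    rw [Submodule.map_iSup]
    refine iSup_le fun F => ?_
    rintro _ ⟨_, ⟨v, rfl⟩, rfl⟩
    refine Submodule.mem_iSup_of_mem F ⟨ρη ⟨m, hm⟩ v, ?_⟩
    exact LinearMap.congr_fun (F.1.isIntertwining' ⟨m, hm⟩) v
  have hHle : ∀ h ∈ H, ∀ T, IsAct hCM h T → ∀ D ∈ Λ,
      (UD D).map (ρ h) ≤ UD (D.map T) := by
    intro h hh T hT D hD
    have hmapOn : ∀ D' ∈ Λ, D'.map T ∈ Λ := hperm h hh T hT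
    have hTinj := hT.injective hCM
    have hsurjΛ : ∀ D'' ∈ Λ, ∃ D' ∈ Λ, D'.map T = D'' :=
      Finset.surjOn_of_injOn_of_card_le (s := Λ) (t := Λ)
        (fun D' : Submodule ℂ WS => D'.map T)
        (fun D' hD' => hmapOn D' hD')
        (fun a _ b _ e => Submodule.map_injective_of_injective hTinj e) le_rfl
    have hother : other (D.map T) ≤ (other D).map T := by
      refine Finset.sup_le fun D'' hD'' => ?_
      obtain ⟨hne', hmem'⟩ := Finset.mem_erase.mp hD''
      obtain ⟨D', hD', rfl⟩ := hsurjΛ D'' hmem'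
      exact Submodule.map_mono (Finset.le_sup (f := id)
        (Finset.mem_erase.mpr ⟨fun e => hne' (by rw [e]), hD'⟩))
    obtain ⟨P, τ, hP, hτ, rfl⟩ := hT
    rw [Submodule.map_iSup]
    refine iSup_le fun F => ?_
    let F' : ZS :=
      { toLinearMap := (ρ h) ∘ₗ F.1.toLinearMap ∘ₗ P.symm.toLinearMap
        isIntertwining' := fun m => LinearMap.ext fun v => by
          simp only [LinearMap.comp_apply, LinearEquiv.coe_coe]
          rw [hP.symm m v]
          have e := LinearMap.congr_fun (F.1.isIntertwining' (conjElt h⁻¹ m)) (P.symm v)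
          simp only [LinearMap.comp_apply] at e
          rw [e]
          show ρ h (ρ (h⁻¹ * (m : G) * h⁻¹⁻¹) _) = ρ (m : G) (ρ h _)
          rw [← Module.End.mul_apply, ← map_mul, ← Module.End.mul_apply (ρ (m : G)), ← map_mul]
          congr 2
          group }
    have hF' : F' ∈ ZD (D.map (actMap hCM hP hτ)) := by
      rw [hmemZD]
      intro Y hY
      obtain ⟨X, hX, rfl⟩ := hother hY
      refine Representation.IntertwiningMap.ext (LinearMap.ext fun v => ?_)
      rw [hΦ]
      show π.toLinearMap (ρ h (F.1.toLinearMap (P.symm (P (X.toLinearMap (τ.symm v)))))) = 0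
      rw [LinearEquiv.symm_apply_apply]
      have e3 := LinearMap.congr_fun (π.isIntertwining' ⟨h, hh⟩)
        (F.1.toLinearMap (X.toLinearMap (τ.symm v)))
      simp only [LinearMap.comp_apply] at e3
      refine e3.trans ?_
      have e4 := (hmemZD D F).mp F.2 X hX
      rw [show π.toLinearMap (F.1.toLinearMap (X.toLinearMap (τ.symm v))) = 0 from
        LinearMap.congr_fun (congrArg Representation.IntertwiningMap.toLinearMap e4) (τ.symm v),
        map_zero]
    rintro _ ⟨_, ⟨v, rfl⟩, rfl⟩
    refine Submodule.mem_iSup_of_mem ⟨F', hF'⟩ ⟨P v, ?_⟩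
    show ρ h (F.1.toLinearMap (P.symm (P v))) = _
    rw [LinearEquiv.symm_apply_apply]
  have hρinj : ∀ g : G, Function.Injective (ρ g) := fun g a b e => by
    have e' := congrArg (ρ g⁻¹) e
    rwa [← Module.End.mul_apply, ← map_mul, inv_mul_cancel, map_one, Module.End.one_apply,
      ← Module.End.mul_apply, ← map_mul, inv_mul_cancel, map_one, Module.End.one_apply] at e'
  have hmapmap : ∀ (a b : G) (p : Submodule ℂ U), p.map (ρ (a * b)) = (p.map (ρ b)).map (ρ a) :=
    fun a b p => by rw [map_mul, Module.End.mul_eq_comp, Submodule.map_comp]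
  have hmapone : ∀ p : Submodule ℂ U, p.map (ρ 1) = p := fun p => by
    rw [map_one]; exact Submodule.map_id p
  have hperm' : ∀ g : G, ∀ D ∈ Λ, ∃ D' ∈ Λ, (UD D).map (ρ g) = UD D' := by
    intro g D hD
    obtain ⟨m, hm, h, hh, rfl⟩ := hMH g
    obtain ⟨T, hT⟩ := exists_isAct hCM (ρφ := ρφ) (ρη := ρη) hinvφ hinvη h
    obtain ⟨T', hT'⟩ := exists_isAct hCM (ρφ := ρφ) (ρη := ρη) hinvφ hinvη h⁻¹
    have hD' := hperm h hh T hT D hD
    have hback : (D.map T).map T' = D := by
      obtain ⟨c, hc, e⟩ := (isAct_one hCM (ρφ := ρφ) (ρη := ρη)).unique hCM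
        ((inv_mul_cancel h).symm ▸ hT'.mul hCM hT)
      rw [← Submodule.map_comp, e, Submodule.map_smul _ _ c hc, Submodule.map_id]
    have heq : (UD D).map (ρ h) = UD (D.map T) := by
      refine le_antisymm (hHle h hh T hT D hD) ?_
      have h2 := Submodule.map_mono (f := ρ h) (hHle h⁻¹ (H.inv_mem hh) T' hT' _ hD')
      rwa [hback, ← hmapmap, mul_inv_cancel, hmapone] at h2
    refine ⟨D.map T, hD', ?_⟩
    rw [hmapmap, heq]
    refine le_antisymm (hMinv _ m hm) ?_
    have h2 := Submodule.map_mono (f := ρ m) (hMinv (D.map T) m⁻¹ (M.inv_mem hm))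
    rwa [← hmapmap, mul_inv_cancel, hmapone] at h2
  obtain ⟨D₀, hD₀, D₁, hD₁, hD01⟩ := Finset.one_lt_card.mp hΛ
  set U₀ := UD D₀ with hU₀
  let X : Subgroup G :=
    { carrier := {g | U₀.map (ρ g) = U₀}
      mul_mem' := fun {a b} ha hb => by
        show U₀.map (ρ (a * b)) = U₀
        rw [hmapmap, hb, ha]
      one_mem' := hmapone U₀
      inv_mem' := fun {a} ha => by
        show U₀.map (ρ a⁻¹) = U₀
        conv_lhs => rw [← ha, ← hmapmap, inv_mul_cancel, hmapone] }
  have hk0 : 0 < k := by
    rcases Nat.eq_zero_or_pos k with h | h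
    · exfalso
      rw [h, mul_zero, zero_mul] at hU
      exact (finrank_pos_of_irreducible ρ).ne' hU
    · exact h
  have hV0 : 0 < finrank ℂ Vη := finrank_pos_of_irreducible ρη
  have hsumΛ : ∑ D ∈ Λ, finrank ℂ D = s := by
    rw [← finrank_finset_sup Λ hind, htop, finrank_top]
    exact hs
  have hU₀ne : U₀ ≠ ⊥ := by
    intro h0
    have hpos : 0 < finrank ℂ (ZD D₀) := by
      rw [hdimZD D₀ hD₀]
      exact Nat.mul_pos (Nat.pos_of_ne_zero fun e =>
        hne D₀ hD₀ (Submodule.finrank_eq_zero.mp e)) hk0
    have : Nontrivial (ZD D₀) := Module.finrank_pos_iff.mp hpos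
    obtain ⟨F, hF⟩ := exists_ne (0 : ZD D₀)
    refine hF (Subtype.ext (Representation.IntertwiningMap.ext ?_))
    exact LinearMap.range_eq_bot.mp (le_bot_iff.mp (h0 ▸ le_iSup (fun F : ZD D₀ =>
      LinearMap.range F.1.toLinearMap) F))
  have hXtop : X ≠ ⊤ := by
    intro hX
    let Q : Subrepresentation ρ :=
      { toSubmodule := U₀
        apply_mem_toSubmodule := fun g u hu =>
          (hX.ge (Subgroup.mem_top g) : U₀.map (ρ g) = U₀) ▸ Submodule.mem_map_of_mem hu }
    rcases IsSimpleOrder.eq_bot_or_eq_top Q with h | h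
    · exact hU₀ne (congrArg Subrepresentation.toSubmodule h)
    · have h1 : U₀ = ⊤ := congrArg Subrepresentation.toSubmodule h
      have h2 := hdimUD D₀ hD₀
      rw [show UD D₀ = ⊤ from h1, finrank_top, hU] at h2
      have h3 : finrank ℂ D₀ + finrank ℂ D₁ ≤ s := by
        rw [← hsumΛ, ← Finset.sum_pair hD01 (f := fun D : Submodule ℂ WS => finrank ℂ D)]
        exact Finset.sum_le_sum_of_subset (by
          intro D hD
          rcases Finset.mem_insert.mp hD with rfl | hD
          · exact hD₀
          · exact Finset.mem_singleton.mp hD ▸ hD₁)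
      have h4 : 0 < finrank ℂ D₁ := Nat.pos_of_ne_zero fun e =>
        hne D₁ hD₁ (Submodule.finrank_eq_zero.mp e)
      have h5 := Nat.le_of_mul_le_mul_right (Nat.le_of_mul_le_mul_right h2 hV0) hk0
      omega
  refine ⟨X, hXtop, fun m hm => le_antisymm (hMinv D₀ m hm) ?_, ?_⟩
  · have h2 := Submodule.map_mono (f := ρ m) (hMinv D₀ m⁻¹ (M.inv_mem hm))
    rwa [← hmapmap, mul_inv_cancel, hmapone] at h2
  let Y : Subrepresentation (ρ.comp X.subtype) :=
    { toSubmodule := U₀
      apply_mem_toSubmodule := fun x u hu =>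
        (x.2 : U₀.map (ρ x) = U₀) ▸ Submodule.mem_map_of_mem hu }
  refine ⟨Y.toRepresentation.character, isCharacter_char _, ?_⟩
  have := Fintype.ofFinite X
  have hρirr : Cfsg.IsIrrCharacter G ρ.character := isIrrCharacter_char ρ
  refine eq_of_constituent_degree_le (isCharacter_indFun X (isCharacter_char _)) hρirr ?_ ?_
  · rw [frobenius_reciprocity X _ (isClassFunction_of_isIrr hρirr),
      show (fun x : X => ρ.character x) = Representation.character (ρ.comp X.subtype) from rfl,
      ← classInner_conj_symm, classInner_character, map_natCast, Nat.cast_ne_zero]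
    intro h0
    have hsub := Module.finrank_zero_iff.mp h0
    let i : Representation.IntertwiningMap Y.toRepresentation (ρ.comp X.subtype) :=
      ⟨Y.toSubmodule.subtype, fun g => LinearMap.ext fun v => rfl⟩
    refine hU₀ne ((Submodule.eq_bot_iff _).mpr fun u hu => ?_)
    exact LinearMap.congr_fun (congrArg Representation.IntertwiningMap.toLinearMap
      (hsub.elim i 0)) ⟨u, hu⟩
  · rw [indFun_one, Representation.char_one, Representation.char_one, ← Nat.cast_mul,
      Complex.natCast_re, Complex.natCast_re]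
    refine Nat.cast_le.mpr ?_
    show X.index * finrank ℂ U₀ ≤ finrank ℂ U
    set O := Finset.univ.image fun g : G => U₀.map (ρ g) with hO
    have hindex : X.index ≤ O.card := by
      rw [Subgroup.index_eq_card, ← Nat.card_eq_finsetCard]
      refine Nat.card_le_card_of_injective (fun q : G ⧸ X => (⟨U₀.map (ρ (Quotient.out q)),
        Finset.mem_image.mpr ⟨_, Finset.mem_univ _, rfl⟩⟩ : {x // x ∈ O})) fun q q' e => ?_
      rw [← QuotientGroup.out_eq' q, ← QuotientGroup.out_eq' q', QuotientGroup.eq]
      show U₀.map (ρ _) = U₀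
      rw [hmapmap, ← show U₀.map (ρ (Quotient.out q)) = U₀.map (ρ (Quotient.out q')) from
        congrArg Subtype.val e, ← hmapmap, inv_mul_cancel, hmapone]
    have hsub : O ⊆ Λ.image UD := by
      intro p hp
      obtain ⟨g, -, rfl⟩ := Finset.mem_image.mp hp
      obtain ⟨D', hD', e⟩ := hperm' g D₀ hD₀
      exact Finset.mem_image.mpr ⟨D', hD', e.symm⟩
    calc X.index * finrank ℂ U₀ ≤ O.card * finrank ℂ U₀ := Nat.mul_le_mul_right _ hindex
      _ = ∑ p ∈ O, finrank ℂ p := by
          rw [Finset.sum_congr rfl (g := fun _ => finrank ℂ U₀) fun p hp => ?_, Finset.sum_const,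
            smul_eq_mul]
          obtain ⟨g, -, rfl⟩ := Finset.mem_image.mp hp
          exact (Submodule.equivMapOfInjective _ (hρinj g) U₀).finrank_eq.symm
      _ ≤ ∑ p ∈ Λ.image UD, finrank ℂ p := Finset.sum_le_sum_of_subset hsub
      _ ≤ ∑ D ∈ Λ, finrank ℂ (UD D) := Finset.sum_image_le_of_nonneg fun _ _ => Nat.zero_le _
      _ ≤ ∑ D ∈ Λ, finrank ℂ D * k * finrank ℂ Vη := Finset.sum_le_sum hdimUD
      _ = finrank ℂ U := by rw [← Finset.sum_mul, ← Finset.sum_mul, hsumΛ, hU]

end CfsgLib.Char.Berger
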