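import Cfsg.Agent.Lib.Char.Equiv
import Cfsg.Agent.Lib.Char.Integral
import Mathlib.LinearAlgebra.Eigenspace.Pi
import Mathlib.LinearAlgebra.Eigenspace.Triangularizable
import Mathlib.LinearAlgebra.Eigenspace.Semisimple
import Mathlib.LinearAlgebra.Determinant
import Mathlib.FieldTheory.Separable

/-!
# The multiplicity space of a fully ramified section and the projective action on it

For normal subgroups `C ≤ M` of `G` and invariant irreducible representations `ρφ` of `C`, `ρη` of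
`M`, the group `G` acts projectively on `W = Hom_C(ρφ, ρη)`. An abelian coprime section `A / C`
acting faithfully decomposes `W` into at least two subspaces permuted by the normalizer of `A`.
-/

namespace CfsgLib.Char.Berger

open Module

variable {G : Type*} [Group G]

section ConjMap

variable {N : Subgroup G} [hN : N.Normal]

/-- Conjugate of an element of a normal subgroup. -/
def conjElt (g : G) (n : N) : N := ⟨g * n * g⁻¹, hN.conj_mem n n.2 g⟩

theorem coe_conjElt (g : G) (n : N) : (conjElt g n : G) = g * n * g⁻¹ := rfl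

variable {V : Type*} [AddCommGroup V] [Module ℂ V] (ρ : Representation ℂ N V)

/-- `P` intertwines `ρ` with its conjugate by `g`. -/
def IsConjMap (g : G) (P : V ≃ₗ[ℂ] V) : Prop :=
  ∀ (n : N) (v : V), P (ρ n v) = ρ (conjElt g n) (P v)

variable {ρ}

theorem IsConjMap.trans {g h : G} {P Q : V ≃ₗ[ℂ] V} (hP : IsConjMap ρ g P)
    (hQ : IsConjMap ρ h Q) : IsConjMap ρ (g * h) (Q.trans P) := by
  intro n v
  rw [LinearEquiv.trans_apply, LinearEquiv.trans_apply, hQ, hP]
  congr 2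
  exact Subtype.ext (by simp only [coe_conjElt]; group)

theorem IsConjMap.symm {g : G} {P : V ≃ₗ[ℂ] V} (hP : IsConjMap ρ g P) :
    IsConjMap ρ g⁻¹ P.symm := by
  intro n v
  apply P.injective
  rw [LinearEquiv.apply_symm_apply, hP, LinearEquiv.apply_symm_apply]
  congr 2
  exact Subtype.ext (by simp only [coe_conjElt]; group)

theorem isConjMap_one : IsConjMap ρ 1 (LinearEquiv.refl ℂ V) := fun n v => by
  simp only [LinearEquiv.refl_apply]
  congr 2
  exact Subtype.ext (by simp [coe_conjElt])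

/-- The operator of an element, as an equivalence. -/
noncomputable def repEquiv (ρ : Representation ℂ N V) (n : N) : V ≃ₗ[ℂ] V :=
  LinearEquiv.ofLinearMap (ρ n) (ρ n⁻¹)
    (by rw [← Module.End.mul_eq_comp, ← map_mul, mul_inv_cancel, map_one]; rfl)
    (by rw [← Module.End.mul_eq_comp, ← map_mul, inv_mul_cancel, map_one]; rfl)

omit hN in
theorem repEquiv_apply (n : N) (v : V) : repEquiv ρ n v = ρ n v := rfl

omit hN in
theorem repEquiv_symm_apply (n : N) (v : V) : (repEquiv ρ n).symm v = ρ n⁻¹ v := rfl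

theorem isConjMap_self (n : N) : IsConjMap ρ (n : G) (repEquiv ρ n) := fun k v => by
  rw [repEquiv_apply, repEquiv_apply, ← Module.End.mul_apply, ← Module.End.mul_apply, ← map_mul,
    ← map_mul]
  congr 2
  exact Subtype.ext (by simp [coe_conjElt])

theorem exists_conjMap [Finite G] [FiniteDimensional ℂ V]
    (hinv : ∀ (g : G) (n : N), ρ.character (conjElt g n) = ρ.character n) (g : G) :
    ∃ P : V ≃ₗ[ℂ] V, IsConjMap ρ g P := by
  let ρ' : Representation ℂ N V := ρ.comp (MulAut.conjNormal (H := N) g).toMonoidHom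
  obtain ⟨e⟩ := nonempty_equiv_of_character_eq ρ ρ' (funext fun n => (hinv g n).symm)
  exact ⟨e.toLinearEquiv, fun n v => LinearMap.congr_fun (e.toIntertwiningMap.isIntertwining' n) v⟩

theorem conjMap_unique [Finite G] [FiniteDimensional ℂ V] [ρ.IsIrreducible] {g : G}
    {P Q : V ≃ₗ[ℂ] V} (hP : IsConjMap ρ g P) (hQ : IsConjMap ρ g Q) :
    ∃ c : ℂ, c ≠ 0 ∧ ∀ v, Q v = c • P v := by
  obtain ⟨c, hc⟩ := exists_eq_smul_id ρ (Q.trans P.symm).toLinearMap fun n =>
    LinearMap.ext fun v => by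
      simp only [LinearMap.comp_apply, LinearEquiv.coe_coe, LinearEquiv.trans_apply]
      rw [hQ, hP.symm]
      congr 2
      exact Subtype.ext (by simp only [coe_conjElt]; group)
  have h : ∀ v, Q v = c • P v := fun v => by
    have h1 : P.symm (Q v) = c • v := LinearMap.congr_fun hc v
    rw [← P.map_smul, ← h1, LinearEquiv.apply_symm_apply]
  refine ⟨c, fun hc0 => ?_, h⟩
  obtain ⟨v, hv⟩ : ∃ v : V, v ≠ 0 :=
    @exists_ne V (Module.finrank_pos_iff.mp (finrank_pos_of_irreducible ρ)) 0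
  exact hv (Q.injective (by rw [h v, hc0, zero_smul, map_zero]))

end ConjMap

variable {C M : Subgroup G} [hCn : C.Normal] [hMn : M.Normal] (hCM : C ≤ M)
variable {Vφ : Type*} [AddCommGroup Vφ] [Module ℂ Vφ]
variable {Vη : Type*} [AddCommGroup Vη] [Module ℂ Vη]

/-- Restriction from `M` to `C`. -/
def resRep (ρη : Representation ℂ M Vη) : Representation ℂ C Vη :=
  ρη.comp (Subgroup.inclusion hCM)

variable (ρφ : Representation ℂ C Vφ) (ρη : Representation ℂ M Vη)

/-- The multiplicity space. -/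
abbrev MultSpace := Representation.IntertwiningMap ρφ (resRep hCM ρη)

variable {ρφ ρη}

/-- The action of a pair of conjugating maps on the multiplicity space. -/
noncomputable def actMap {g : G} {P : Vη ≃ₗ[ℂ] Vη} {τ : Vφ ≃ₗ[ℂ] Vφ} (hP : IsConjMap ρη g P)
    (hτ : IsConjMap ρφ g τ) : MultSpace hCM ρφ ρη →ₗ[ℂ] MultSpace hCM ρφ ρη where
  toFun X :=
    { toLinearMap := P.toLinearMap ∘ₗ X.toLinearMap ∘ₗ τ.symm.toLinearMap
      isIntertwining' := fun c => LinearMap.ext fun v => by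
        simp only [LinearMap.comp_apply, LinearEquiv.coe_coe]
        rw [hτ.symm c v,
          show X.toLinearMap (ρφ (conjElt g⁻¹ c) (τ.symm v)) =
            resRep hCM ρη (conjElt g⁻¹ c) (X.toLinearMap (τ.symm v)) from
            LinearMap.congr_fun (X.isIntertwining' _) _]
        show P (ρη _ _) = ρη _ _
        rw [hP]
        congr 2
        exact Subtype.ext (by simp [coe_conjElt, mul_assoc]) }
  map_add' X Y := Representation.IntertwiningMap.ext (LinearMap.ext fun v => P.map_add _ _)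
  map_smul' c X := Representation.IntertwiningMap.ext (LinearMap.ext fun v => P.map_smul c _)

theorem actMap_apply {g : G} {P : Vη ≃ₗ[ℂ] Vη} {τ : Vφ ≃ₗ[ℂ] Vφ} (hP : IsConjMap ρη g P)
    (hτ : IsConjMap ρφ g τ) (X : MultSpace hCM ρφ ρη) (v : Vφ) :
    (actMap hCM hP hτ X).toLinearMap v = P (X.toLinearMap (τ.symm v)) := rfl

/-- `T` is the action of `g` on the multiplicity space, for some choice of conjugating maps. -/
def IsAct (g : G) (T : MultSpace hCM ρφ ρη →ₗ[ℂ] MultSpace hCM ρφ ρη) : Prop :=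
  ∃ (P : Vη ≃ₗ[ℂ] Vη) (τ : Vφ ≃ₗ[ℂ] Vφ) (hP : IsConjMap ρη g P) (hτ : IsConjMap ρφ g τ),
    T = actMap hCM hP hτ

theorem exists_isAct [Finite G] [FiniteDimensional ℂ Vφ] [FiniteDimensional ℂ Vη]
    (hinvφ : ∀ (g : G) (n : C), ρφ.character (conjElt g n) = ρφ.character n)
    (hinvη : ∀ (g : G) (n : M), ρη.character (conjElt g n) = ρη.character n) (g : G) :
    ∃ T, IsAct hCM (ρφ := ρφ) (ρη := ρη) g T := by
  obtain ⟨P, hP⟩ := exists_conjMap hinvη g
  obtain ⟨τ, hτ⟩ := exists_conjMap hinvφ g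
  exact ⟨_, P, τ, hP, hτ, rfl⟩

theorem IsAct.mul {g h : G} {T U : MultSpace hCM ρφ ρη →ₗ[ℂ] MultSpace hCM ρφ ρη}
    (hT : IsAct hCM g T) (hU : IsAct hCM h U) : IsAct hCM (g * h) (T ∘ₗ U) := by
  obtain ⟨P, τ, hP, hτ, rfl⟩ := hT
  obtain ⟨Q, σ, hQ, hσ, rfl⟩ := hU
  exact ⟨_, _, hP.trans hQ, hτ.trans hσ,
    LinearMap.ext fun X => Representation.IntertwiningMap.ext (LinearMap.ext fun v => rfl)⟩

theorem isAct_one : IsAct hCM (ρφ := ρφ) (ρη := ρη) 1 LinearMap.id :=
  ⟨_, _, isConjMap_one, isConjMap_one,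
    LinearMap.ext fun _ => Representation.IntertwiningMap.ext (LinearMap.ext fun _ => rfl)⟩

theorem IsAct.unique [Finite G] [FiniteDimensional ℂ Vφ] [FiniteDimensional ℂ Vη]
    [ρφ.IsIrreducible] [ρη.IsIrreducible] {g : G}
    {T U : MultSpace hCM ρφ ρη →ₗ[ℂ] MultSpace hCM ρφ ρη}
    (hT : IsAct hCM g T) (hU : IsAct hCM g U) : ∃ c : ℂ, c ≠ 0 ∧ U = c • T := by
  obtain ⟨P, τ, hP, hτ, rfl⟩ := hT
  obtain ⟨Q, σ, hQ, hσ, rfl⟩ := hU
  obtain ⟨a, ha, haP⟩ := conjMap_unique hP hQ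
  obtain ⟨b, hb, hbτ⟩ := conjMap_unique hτ hσ
  refine ⟨a * b⁻¹, mul_ne_zero ha (inv_ne_zero hb), LinearMap.ext fun X =>
    Representation.IntertwiningMap.ext (LinearMap.ext fun v => ?_)⟩
  have e : σ.symm v = b⁻¹ • τ.symm v := by
    apply σ.injective
    rw [LinearEquiv.apply_symm_apply, map_smul, hbτ, LinearEquiv.apply_symm_apply, smul_smul,
      inv_mul_cancel₀ hb, one_smul]
  show Q (X.toLinearMap (σ.symm v)) = (a * b⁻¹) • P (X.toLinearMap (τ.symm v))
  rw [e, map_smul, map_smul, haP, smul_smul, mul_comm]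

theorem isAct_of_mem {c : G} (hc : c ∈ C) : IsAct hCM (ρφ := ρφ) (ρη := ρη) c LinearMap.id := by
  refine ⟨_, _, isConjMap_self (⟨c, hCM hc⟩ : M), isConjMap_self (⟨c, hc⟩ : C),
    LinearMap.ext fun X => Representation.IntertwiningMap.ext (LinearMap.ext fun v => ?_)⟩
  show X.toLinearMap v = ρη ⟨c, hCM hc⟩ (X.toLinearMap (ρφ (⟨c, hc⟩ : C)⁻¹ v))
  have h := LinearMap.congr_fun (X.isIntertwining' (⟨c, hc⟩ : C)⁻¹) v
  simp only [LinearMap.comp_apply] at h
  rw [h]
  show _ = ρη ⟨c, hCM hc⟩ (ρη (Subgroup.inclusion hCM (⟨c, hc⟩ : C)⁻¹) (X.toLinearMap v))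
  rw [← Module.End.mul_apply, ← map_mul, map_inv]
  rw [show (⟨c, hCM hc⟩ : M) * (Subgroup.inclusion hCM ⟨c, hc⟩)⁻¹ = 1 from mul_inv_cancel _,
    map_one, Module.End.one_apply]

variable [Finite G] [FiniteDimensional ℂ Vφ] [FiniteDimensional ℂ Vη] [ρφ.IsIrreducible]
  [ρη.IsIrreducible]

omit [Finite G] [FiniteDimensional ℂ Vφ] [FiniteDimensional ℂ Vη] [ρφ.IsIrreducible]
  [ρη.IsIrreducible] in
theorem IsAct.injective {g : G} {T : MultSpace hCM ρφ ρη →ₗ[ℂ] MultSpace hCM ρφ ρη}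
    (hT : IsAct hCM g T) : Function.Injective T := by
  obtain ⟨P, τ, hP, hτ, rfl⟩ := hT
  intro X Y h
  refine Representation.IntertwiningMap.ext (LinearMap.ext fun v => P.injective ?_)
  have h' := LinearMap.congr_fun (congrArg Representation.IntertwiningMap.toLinearMap h) (τ v)
  simpa [actMap_apply] using h'

/-- The elements of `M` acting as scalars. -/
theorem scalar_normal (hinvφ : ∀ (g : G) (n : C), ρφ.character (conjElt g n) = ρφ.character n)
    (hinvη : ∀ (g : G) (n : M), ρη.character (conjElt g n) = ρη.character n) :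
    ∃ M₀ : Subgroup G, M₀.Normal ∧ C ≤ M₀ ∧ M₀ ≤ M ∧ ∀ g : G, g ∈ M₀ ↔
      g ∈ M ∧ ∃ c : ℂ, IsAct hCM (ρφ := ρφ) (ρη := ρη) g (c • LinearMap.id) := by
  classical
  let S : Set G := {g | g ∈ M ∧ ∃ c : ℂ, IsAct hCM (ρφ := ρφ) (ρη := ρη) g (c • LinearMap.id)}
  have hmul : ∀ {x y : G}, x ∈ S → y ∈ S → x * y ∈ S := by
    rintro x y ⟨hx, a, ha⟩ ⟨hy, b, hb⟩
    refine ⟨M.mul_mem hx hy, a * b, ?_⟩
    have := ha.mul hCM hb
    rwa [LinearMap.comp_smul, LinearMap.smul_comp, LinearMap.id_comp, smul_smul, mul_comm] at this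
  have hone : (1 : G) ∈ S :=
    ⟨one_mem M, 1, by rw [one_smul]; exact isAct_of_mem hCM (one_mem C)⟩
  have hinv : ∀ {x : G}, x ∈ S → x⁻¹ ∈ S := fun {x} hx => by
    obtain ⟨n, hn⟩ : ∃ n : ℕ, x⁻¹ = x ^ n :=
      ⟨orderOf x - 1, inv_eq_of_mul_eq_one_right (by
        rw [← pow_succ', Nat.sub_add_cancel (orderOf_pos x), pow_orderOf_eq_one])⟩
    rw [hn]
    clear hn
    induction n with
    | zero => rw [pow_zero]; exact hone
    | succ n ih => rw [pow_succ]; exact hmul ih hx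
  let M₀ : Subgroup G :=
    { carrier := S, mul_mem' := hmul, one_mem' := hone, inv_mem' := hinv }
  refine ⟨M₀, ⟨?_⟩, fun c hc => ⟨hCM hc, 1, by rw [one_smul]; exact isAct_of_mem hCM hc⟩,
    fun g hg => hg.1, fun g => Iff.rfl⟩
  rintro x ⟨hx, a, ha⟩ g
  refine ⟨hMn.conj_mem x hx g, ?_⟩
  obtain ⟨T, hT⟩ := exists_isAct hCM hinvφ hinvη g
  obtain ⟨U, hU⟩ := exists_isAct hCM hinvφ hinvη g⁻¹
  have h := (hT.mul hCM ha).mul hCM hU
  obtain ⟨c, -, hc⟩ := (isAct_one hCM (ρφ := ρφ) (ρη := ρη)).unique hCM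
    ((mul_inv_cancel g).symm ▸ hT.mul hCM hU)
  refine ⟨a * c, ?_⟩
  rw [LinearMap.comp_smul, LinearMap.smul_comp, LinearMap.comp_id, hc, smul_smul] at h
  exact h

/-- Elements of `M` outside `C` are not scalars, `M / C` being a chief factor. -/
theorem not_scalar_of_chief
    (hinvφ : ∀ (g : G) (n : C), ρφ.character (conjElt g n) = ρφ.character n)
    (hinvη : ∀ (g : G) (n : M), ρη.character (conjElt g n) = ρη.character n)
    (hchief : ∀ K : Subgroup G, K.Normal → C ≤ K → K ≤ M → K = C ∨ K = M)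
    (hdeg : 1 < finrank ℂ (MultSpace hCM ρφ ρη))
    (hdim : finrank ℂ Vη = finrank ℂ (MultSpace hCM ρφ ρη) * finrank ℂ Vφ)
    {g : G} (hg : g ∈ M) {c : ℂ} (hc : IsAct hCM (ρφ := ρφ) (ρη := ρη) g (c • LinearMap.id)) :
    g ∈ C := by
  obtain ⟨M₀, hn, hCM₀, hM₀, hmem⟩ := scalar_normal hCM hinvφ hinvη
  rcases hchief M₀ hn hCM₀ hM₀ with h | h
  · exact h.le ((hmem g).mpr ⟨hg, c, hc⟩)
  exfalso
  have : Nontrivial (MultSpace hCM ρφ ρη) := Module.finrank_pos_iff.mp (lt_trans zero_lt_one hdeg)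
  obtain ⟨X, hX⟩ := exists_ne (0 : MultSpace hCM ρφ ρη)
  let Q : Subrepresentation ρη :=
    { toSubmodule := LinearMap.range X.toLinearMap
      apply_mem_toSubmodule := fun m v hv => by
        obtain ⟨u, rfl⟩ := hv
        obtain ⟨-, a, P, τ, hP, hτ, he⟩ := (hmem (m : G)).mp (h.ge m.2)
        obtain ⟨b, hb, hbP⟩ := conjMap_unique hP (isConjMap_self m)
        have h1 := LinearMap.congr_fun
          (congrArg Representation.IntertwiningMap.toLinearMap (LinearMap.congr_fun he X)) (τ u)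
        simp only [actMap_apply, LinearEquiv.symm_apply_apply] at h1
        refine ⟨(b * a) • τ u, ?_⟩
        rw [← repEquiv_apply m (X.toLinearMap u), hbP, ← h1, map_smul, mul_smul]
        rfl }
  rcases IsSimpleOrder.eq_bot_or_eq_top Q with h0 | h0
  · apply hX
    refine Representation.IntertwiningMap.ext ?_
    exact LinearMap.range_eq_bot.mp (congrArg Subrepresentation.toSubmodule h0)
  · have h1 : LinearMap.range X.toLinearMap = ⊤ := congrArg Subrepresentation.toSubmodule h0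
    have h2 := X.toLinearMap.finrank_range_le
    rw [h1, finrank_top, hdim] at h2
    have h3 := finrank_pos_of_irreducible ρφ
    nlinarith

omit [Finite G] in
/-- Finrank of an independent supremum. -/
theorem finrank_finset_sup {W : Type*} [AddCommGroup W] [Module ℂ W] [FiniteDimensional ℂ W]
    (s : Finset (Submodule ℂ W)) (h : s.SupIndep id) :
    finrank ℂ ↥(s.sup id) = ∑ D ∈ s, finrank ℂ D := by
  classical
  induction s using Finset.induction_on with
  | empty => simp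
  | insert D s hD ih =>
    rw [Finset.sup_insert, Finset.sum_insert hD, ← ih (h.subset (Finset.subset_insert D s))]
    have hdis : Disjoint D (s.sup id) :=
      h (Finset.subset_insert D s) (Finset.mem_insert_self D s) hD
    have h1 := Submodule.finrank_sup_add_finrank_inf_eq D (s.sup id)
    rw [hdis.eq_bot, finrank_bot] at h1
    simpa using h1

/-- A coprime abelian section acting faithfully splits the multiplicity space. -/
theorem exists_decomposition
    (hinvφ : ∀ (g : G) (n : C), ρφ.character (conjElt g n) = ρφ.character n)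
    (hinvη : ∀ (g : G) (n : M), ρη.character (conjElt g n) = ρη.character n)
    (hchief : ∀ K : Subgroup G, K.Normal → C ≤ K → K ≤ M → K = C ∨ K = M)
    (hdeg : 1 < finrank ℂ (MultSpace hCM ρφ ρη))
    (hdim : finrank ℂ Vη = finrank ℂ (MultSpace hCM ρφ ρη) * finrank ℂ Vφ)
    (A : Subgroup G) {N : ℕ} (hN : N ≠ 0) (hcop : N.Coprime (finrank ℂ (MultSpace hCM ρφ ρη)))
    (hpow : ∀ a ∈ A, a ^ N ∈ C) (hcomm : ∀ a ∈ A, ∀ b ∈ A, a * b * a⁻¹ * b⁻¹ ∈ C)
    {a₀ m₀ : G} (ha₀ : a₀ ∈ A) (hm₀ : m₀ ∈ M) (ham : a₀ * m₀ * a₀⁻¹ * m₀⁻¹ ∉ C) :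
    ∃ Λ : Finset (Submodule ℂ (MultSpace hCM ρφ ρη)), 1 < Λ.card ∧ Λ.SupIndep id ∧ Λ.sup id = ⊤ ∧
      (∀ D ∈ Λ, D ≠ ⊥) ∧
      ∀ h : G, (∀ a, a ∈ A → h * a * h⁻¹ ∈ A ∧ h⁻¹ * a * h ∈ A) →
        ∀ T, IsAct hCM h T → ∀ D ∈ Λ, D.map T ∈ Λ := by
  classical
  set W := MultSpace hCM ρφ ρη with hW
  choose S hS using exists_isAct hCM (ρφ := ρφ) (ρη := ρη) hinvφ hinvη
  have hmul : ∀ x y : G, ∃ c : ℂ, c ≠ 0 ∧ S (x * y) = c • (S x ∘ₗ S y) := fun x y =>
    ((hS x).mul hCM (hS y)).unique hCM (hS (x * y))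
  have hCs : ∀ c ∈ C, ∃ a : ℂ, a ≠ 0 ∧ S c = a • LinearMap.id := fun c hc =>
    (isAct_of_mem hCM hc).unique hCM (hS c)
  have hpowS : ∀ (x : G) (k : ℕ), ∃ c : ℂ, c ≠ 0 ∧ S (x ^ k) = c • (S x ^ k) := by
    intro x k
    induction k with
    | zero =>
      obtain ⟨a, ha, he⟩ := hCs 1 (one_mem C)
      exact ⟨a, ha, by rw [pow_zero, pow_zero, he]; rfl⟩
    | succ k ih =>
      obtain ⟨c, hc, he⟩ := ih
      obtain ⟨d, hd, he'⟩ := hmul (x ^ k) x
      refine ⟨d * c, mul_ne_zero hd hc, ?_⟩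
      rw [pow_succ, pow_succ, he', he, LinearMap.smul_comp, smul_smul]
      rfl
  have hdetne : ∀ x : G, LinearMap.det (S x) ≠ 0 := fun x =>
    ((LinearEquiv.ofBijective (S x) ⟨(hS x).injective hCM,
      LinearMap.surjective_of_injective ((hS x).injective hCM)⟩).isUnit_det').ne_zero
  -- the operators of `A` commute
  have hAc : ∀ a ∈ A, ∀ b ∈ A, S a * S b = S b * S a := by
    intro a ha b hb
    obtain ⟨c1, hc1, e1⟩ := hmul a b
    obtain ⟨c2, hc2, e2⟩ := hmul (a * b * a⁻¹ * b⁻¹) (b * a)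
    obtain ⟨c3, hc3, e3⟩ := hmul b a
    obtain ⟨c4, hc4, e4⟩ := hCs _ (hcomm a ha b hb)
    rw [show a * b * a⁻¹ * b⁻¹ * (b * a) = a * b by group, e4, e3, e1] at e2
    simp only [LinearMap.smul_comp, LinearMap.comp_smul, LinearMap.id_comp, smul_smul] at e2
    have hζ' : S a * S b = (c1⁻¹ * (c2 * c4 * c3)) • (S b * S a) := by
      rw [← smul_smul c1⁻¹]
      rw [show S a * S b = c1⁻¹ • (c1 • (S a * S b)) by rw [smul_smul, inv_mul_cancel₀ hc1, one_smul]]
      congr 1
      rw [Module.End.mul_eq_comp, Module.End.mul_eq_comp, e2]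
      congr 1
      ring
    set ζ := c1⁻¹ * (c2 * c4 * c3) with hζdef
    have hζ0 : ζ ≠ 0 := by simp [hζdef, hc1, hc2, hc3, hc4]
    have hζs : ζ ^ finrank ℂ W = 1 := by
      have := congrArg LinearMap.det hζ'
      rw [map_mul, LinearMap.det_smul, map_mul, mul_comm (LinearMap.det (S b))] at this
      exact (mul_eq_right₀ (mul_ne_zero (hdetne a) (hdetne b))).mp this.symm
    have hζN : ζ ^ N = 1 := by
      obtain ⟨c, hc, ec⟩ := hpowS b N
      obtain ⟨d, hd, ed⟩ := hCs _ (hpow b hb)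
      have hbN : S b ^ N = (c⁻¹ * d) • (1 : Module.End ℂ W) := by
        rw [← smul_smul]
        rw [show (d • (1 : Module.End ℂ W)) = S (b ^ N) from ed.symm, ec, smul_smul,
          inv_mul_cancel₀ hc, one_smul]
      have hind : ∀ k : ℕ, S a * S b ^ k = ζ ^ k • (S b ^ k * S a) := by
        intro k
        induction k with
        | zero => simp
        | succ k ihk =>
          rw [pow_succ, ← mul_assoc, ihk, smul_mul_assoc, mul_assoc, hζ', mul_smul_comm, smul_smul,
            ← pow_succ ζ k, mul_assoc (S b ^ k) (S b) (S a)]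
      have h := hind N
      rw [hbN, mul_smul_comm, smul_mul_assoc, mul_one, one_mul, smul_smul] at h
      have hd' : c⁻¹ * d ≠ 0 := by simp [hc, hd]
      have hSa : S a ≠ 0 := fun h0 => by
        have : Nontrivial W := Module.finrank_pos_iff.mp (lt_trans zero_lt_one hdeg)
        obtain ⟨X, hX⟩ := exists_ne (0 : W)
        exact hX ((hS a).injective hCM (by rw [h0]; rfl))
      have h' := smul_left_injective ℂ hSa h
      exact (mul_eq_right₀ hd').mp h'.symm
    have hζ1 : ζ = 1 := by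
      have h1 : orderOf ζ ∣ N := orderOf_dvd_of_pow_eq_one hζN
      have h2 : orderOf ζ ∣ finrank ℂ W := orderOf_dvd_of_pow_eq_one hζs
      have h3 := Nat.dvd_gcd h1 h2
      rw [hcop.gcd_eq_one, Nat.dvd_one, orderOf_eq_one_iff] at h3
      exact h3
    rw [hζ', hζ1, one_smul]
  let f : A → Module.End ℂ W := fun a => S a
  have hpair : Pairwise fun i j : A => Commute (f i) (f j) := fun i j _ => hAc i i.2 j j.2
  have hsemi : ∀ a : A, (f a).IsSemisimple := by
    intro a
    obtain ⟨c, hc, ec⟩ := hpowS a N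
    obtain ⟨d, hd, ed⟩ := hCs _ (hpow a a.2)
    refine Module.End.isSemisimple_of_squarefree_aeval_eq_zero
      (p := Polynomial.X ^ N - Polynomial.C (c⁻¹ * d))
      (Polynomial.separable_X_pow_sub_C _ (Nat.cast_ne_zero.mpr hN) (by simp [hc, hd])).squarefree ?_
    rw [map_sub, map_pow, Polynomial.aeval_X, Polynomial.aeval_C, sub_eq_zero,
      Module.algebraMap_end_eq_smul_id, ← smul_smul]
    rw [show d • (LinearMap.id : Module.End ℂ W) = S ((a : G) ^ N) from ed.symm, ec, smul_smul,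
      inv_mul_cancel₀ hc, one_smul]
  let E : (A → ℂ) → Submodule ℂ W := fun μ => ⨅ a, (f a).eigenspace (μ a)
  have heig : ∀ μ : A → ℂ, (⨅ a, (f a).maxGenEigenspace (μ a)) = E μ := fun μ =>
    iInf_congr fun a =>
      (Module.End.isFinitelySemisimple_iff_isSemisimple.mpr (hsemi a)).maxGenEigenspace_eq_eigenspace _
  have htop : ⨆ μ, E μ = ⊤ := by
    simp only [← heig]
    exact Module.End.iSup_iInf_maxGenEigenspace_eq_top_of_iSup_maxGenEigenspace_eq_top_of_commute f
      hpair fun a => Module.End.iSup_maxGenEigenspace_eq_top (f a)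
  have hindep : iSupIndep E := by
    have h := Module.End.independent_iInf_maxGenEigenspace_of_forall_mapsTo f (fun i j φ => by
      refine Module.End.mapsTo_maxGenEigenspace_of_comm ?_ φ
      exact hAc j j.2 i i.2)
    simpa only [heig] using h
  have hfin : {μ | E μ ≠ ⊥}.Finite := Submodule.finite_ne_bot_of_iSupIndep hindep
  set Λ := hfin.toFinset.image E with hΛ
  have hmemΛ : ∀ D, D ∈ Λ ↔ ∃ μ, E μ ≠ ⊥ ∧ E μ = D := fun D => by simp [hΛ]
  have hsup : Λ.sup id = ⊤ := by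
    rw [eq_top_iff, ← htop]
    refine iSup_le fun μ => ?_
    rcases eq_or_ne (E μ) ⊥ with h | h
    · rw [h]; exact bot_le
    · exact Finset.le_sup (f := id) ((hmemΛ _).mpr ⟨μ, h, rfl⟩)
  refine ⟨Λ, ?_, ?_, hsup, fun D hD => ?_, ?_⟩
  · by_contra hle
    rw [not_lt, Finset.card_le_one] at hle
    obtain ⟨D, hD⟩ : Λ.Nonempty := Finset.nonempty_iff_ne_empty.mpr fun h => by
      rw [h, Finset.sup_empty] at hsup
      have : finrank ℂ W = 0 := by rw [← finrank_top ℂ W, ← hsup, finrank_bot]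
      exact (lt_trans zero_lt_one hdeg).ne' this
    obtain ⟨μ, -, rfl⟩ := (hmemΛ D).mp hD
    have hall : E μ = ⊤ := by
      rw [eq_top_iff, ← hsup]
      exact Finset.sup_le fun D' hD' => (hle D' hD' _ hD).le
    -- the element `a₀` would act as a scalar
    have hsc : S a₀ = μ ⟨a₀, ha₀⟩ • LinearMap.id := LinearMap.ext fun X =>
      Module.End.mem_eigenspace_iff.mp ((Submodule.mem_iInf _).mp (hall.ge (Submodule.mem_top))
        ⟨a₀, ha₀⟩)
    obtain ⟨b, hb, eb⟩ := (isAct_one hCM (ρφ := ρφ) (ρη := ρη)).unique hCM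
      ((mul_inv_cancel m₀).symm ▸ (hS m₀).mul hCM (hS m₀⁻¹))
    have h1 := ((((hS a₀).mul hCM (hS m₀)).mul hCM (hS a₀⁻¹)).mul hCM (hS m₀⁻¹))
    obtain ⟨b', hb', eb'⟩ := (isAct_one hCM (ρφ := ρφ) (ρη := ρη)).unique hCM
      ((mul_inv_cancel a₀).symm ▸ (hS a₀).mul hCM (hS a₀⁻¹))
    rw [hsc, LinearMap.smul_comp, LinearMap.id_comp] at h1 eb'
    have hinva : μ ⟨a₀, ha₀⟩ • S m₀ ∘ₗ S a₀⁻¹ = b' • S m₀ := by
      rw [← LinearMap.comp_smul, eb', LinearMap.comp_smul, LinearMap.comp_id]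
    rw [show (μ ⟨a₀, ha₀⟩ • S m₀) ∘ₗ S a₀⁻¹ = b' • S m₀ from by
      rw [LinearMap.smul_comp]; exact hinva, LinearMap.smul_comp, eb, smul_smul] at h1
    refine ham (not_scalar_of_chief hCM hinvφ hinvη hchief hdeg hdim ?_ h1)
    exact M.mul_mem (hMn.conj_mem m₀ hm₀ a₀) (M.inv_mem hm₀)
  · rw [Finset.supIndep_iff_disjoint_erase]
    intro D hD
    obtain ⟨μ, -, rfl⟩ := (hmemΛ D).mp hD
    refine (hindep μ).mono_right (Finset.sup_le fun D' hD' => ?_)
    obtain ⟨hne, hD''⟩ := Finset.mem_erase.mp hD'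
    obtain ⟨ν, -, rfl⟩ := (hmemΛ D').mp hD''
    exact le_iSup₂_of_le ν (fun h => hne (by rw [h])) le_rfl
  · obtain ⟨μ, h, rfl⟩ := (hmemΛ D).mp hD
    exact h
  · intro h hA T hT D hD
    obtain ⟨μ, hμ, rfl⟩ := (hmemΛ D).mp hD
    -- scalars relating the operators of `a` and of its conjugate
    have hrel : ∀ a : A, ∃ c : ℂ, T ∘ₗ S a = c • (S (h * a * h⁻¹) ∘ₗ T) := by
      intro a
      have h1 := hT.mul hCM (hS a)
      have h2 := (hS (h * a * h⁻¹)).mul hCM hT
      rw [show h * (a : G) * h⁻¹ * h = h * a by group] at h2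
      obtain ⟨c, -, hc⟩ := h2.unique hCM h1
      exact ⟨c, hc⟩
    choose c hc using hrel
    have hTinj : Function.Injective T := hT.injective hCM
    have hTsurj : Function.Surjective T := LinearMap.surjective_of_injective hTinj
    have hSinj : ∀ x : G, Function.Injective (S x) := fun x => (hS x).injective hCM
    let pre : A → A := fun b => ⟨h⁻¹ * b * h, (hA b b.2).2⟩
    have hpre : ∀ b : A, h * (pre b : G) * h⁻¹ = b := fun b => by simp [pre, mul_assoc]
    let μ' : A → ℂ := fun b => μ (pre b) / c (pre b)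
    have hc0 : ∀ a : A, c a ≠ 0 := fun a h0 => by
      obtain ⟨X, hX⟩ : ∃ X : W, X ≠ 0 := @exists_ne W (Module.finrank_pos_iff.mp (lt_trans zero_lt_one hdeg)) 0
      have h1 := LinearMap.congr_fun (hc a) X
      simp only [LinearMap.comp_apply, h0, zero_smul, LinearMap.zero_apply] at h1
      exact hX (hSinj a (by rw [map_zero]; exact hTinj (by rw [map_zero]; exact h1)))
    have hmap : (E μ).map T = E μ' := by
      ext Y
      obtain ⟨X, rfl⟩ := hTsurj Y
      rw [Submodule.mem_map]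
      simp only [E, Submodule.mem_iInf, Module.End.mem_eigenspace_iff, f]
      constructor
      · rintro ⟨X', hX', he⟩ b
        rw [hTinj he] at hX'
        have h1 := LinearMap.congr_fun (hc (pre b)) X
        simp only [LinearMap.comp_apply, LinearMap.smul_apply, hpre, hX' (pre b), map_smul] at h1
        simp only [μ', div_eq_inv_mul]
        rw [← smul_smul, h1, smul_smul, inv_mul_cancel₀ (hc0 _), one_smul]
      · intro hY
        refine ⟨X, fun a => hTinj ?_, rfl⟩
        have hb : h * (a : G) * h⁻¹ ∈ A := (hA a a.2).1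
        have hpa : pre ⟨_, hb⟩ = a := Subtype.ext (by simp [pre, mul_assoc])
        have h1 := LinearMap.congr_fun (hc a) X
        simp only [LinearMap.comp_apply, LinearMap.smul_apply] at h1
        rw [h1, map_smul, hY ⟨_, hb⟩]
        simp only [μ', hpa, smul_smul]
        rw [mul_div_cancel₀ _ (hc0 a)]
    rw [hmap]
    refine (hmemΛ _).mpr ⟨μ', fun h0 => hμ ?_, rfl⟩
    refine Submodule.map_injective_of_injective hTinj ?_
    rw [hmap, h0, Submodule.map_bot]

end CfsgLib.Char.Berger
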